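import Mathlib.AlgebraicGeometry.Sites.Fpqc
import Mathlib.CategoryTheory.Monoidal.Cartesian.Over

/-! # Factorisations through monomorphisms descend along fpqc covers -/

set_option autoImplicit false
universe u

open CategoryTheory CategoryTheory.Limits AlgebraicGeometry

namespace Groth.Agent.FppfDesc19

/-- If `g` composed with a fpqc cover factors through a monomorphism, so does `g`. -/
theorem exists_lift_of_cover {S : Scheme.{u}} {T T' H G : Over S} (π : T' ⟶ T) [Flat π.left]
    [Surjective π.left] [QuasiCompact π.left] (j : H ⟶ G) [Mono j.left] (g : T ⟶ G) (h : T' ⟶ H)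
    (hh : h ≫ j = π ≫ g) : ∃ l : T ⟶ H, l ≫ j = g := by
  have hl : h.left ≫ j.left = π.left ≫ g.left := by
    rw [← Over.comp_left, hh, Over.comp_left]
  have hc : ∀ {Z : Scheme.{u}} (g₁ g₂ : Z ⟶ T'.left), g₁ ≫ π.left = g₂ ≫ π.left →
      g₁ ≫ h.left = g₂ ≫ h.left := fun g₁ g₂ e => by
    rw [← cancel_mono j.left, Category.assoc, Category.assoc, hl, reassoc_of% e]
  let l := EffectiveEpi.desc π.left h.left hc
  have hl' : l ≫ j.left = g.left := by
    rw [← cancel_epi π.left, EffectiveEpi.fac_assoc, hl]
  refine ⟨Over.homMk l ?_, Over.OverMorphism.ext hl'⟩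
  rw [← Over.w j, reassoc_of% hl', Over.w g]

/-- Lift a point along a faithfully flat qc morphism after a cover. -/
theorem exists_cover_lift {S : Scheme.{u}} {T H Q : Over S} (p : H ⟶ Q) [Flat p.left]
    [Surjective p.left] [QuasiCompact p.left] (x : T ⟶ Q) :
    ∃ (T' : Over S) (π : T' ⟶ T) (h : T' ⟶ H),
      Flat π.left ∧ Surjective π.left ∧ QuasiCompact π.left ∧ h ≫ p = π ≫ x := by
  refine ⟨Over.mk (pullback.fst x.left p.left ≫ T.hom), Over.homMk (pullback.fst x.left p.left) rfl,
    Over.homMk (pullback.snd x.left p.left) ?_, ?_, ?_, ?_,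
    Over.OverMorphism.ext pullback.condition.symm⟩
  · show pullback.snd x.left p.left ≫ H.hom = pullback.fst x.left p.left ≫ T.hom
    rw [← Over.w p, ← Over.w x, ← pullback.condition_assoc]
  · exact inferInstanceAs (Flat (pullback.fst x.left p.left))
  · exact inferInstanceAs (Surjective (pullback.fst x.left p.left))
  · exact inferInstanceAs (QuasiCompact (pullback.fst x.left p.left))

end Groth.Agent.FppfDesc19
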